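import Cfsg.Agent.E6Min.Act3

set_option autoImplicit false
set_option linter.unusedSectionVars false

/-!
# Certificates for the root system E6 (helper19)
-/

namespace Cfsg.Agent.E6Min

namespace Act

/-- the positive roots -/
def P : List ℕ := List.range' 36 36

/-- connections -/
def conT : List (ℕ × ℕ) := [(0, 46), (0, 47), (0, 48), (0, 49), (0, 50), (0, 51), (0, 52), (0, 53), (0, 54), (0, 55), (1, 53), (1, 54), (1, 55), (2, 55), (5, 55), (0, 61), (0, 62), (0, 63), (0, 64), (0, 65), (0, 66), (0, 67), (0, 68), (0, 69), (0, 70), (1, 64), (1, 65), (1, 66), (2, 66), (1, 67), (1, 68), (1, 69), (2, 67), (2, 68), (3, 67), (4, 68), (3, 69), (4, 69), (2, 70), (3, 70), (4, 70), (5, 69), (5, 70), (6, 70), (7, 70), (1, 71), (2, 71), (3, 71), (4, 71), (5, 71), (6, 71), (7, 71), (8, 71), (9, 71), (10, 71), (16, 66), (16, 69), (16, 70), (17, 70), (18, 70), (16, 71), (17, 71), (18, 71), (19, 71), (20, 71), (21, 71), (22, 71), (23, 71), (24, 71), (25, 71), (46, 70)]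

/-- check of a connection -/
def conChk (j : ℕ) : Bool :=
  let p := conT.getD j (0, 0)
  Nat.blt p.1 (j + 1) && okPair [] p.1 (j + 1) p.2

set_option maxRecDepth 100000 in
theorem conChk_all : ((List.range 71).all conChk) = true := by decide +kernel

/-- neighbours of the simple roots -/
def nbT : List (ℕ × List (ℕ × ℕ)) := [(56, [(57, 29), (58, 28), (59, 27), (60, 26), (61, 21), (62, 20), (63, 19), (64, 18), (65, 17), (66, 16)]), (46, [(47, 32), (48, 31), (49, 30), (50, 28), (51, 27), (52, 26), (61, 13), (62, 12), (63, 11), (71, 1)]), (42, [(43, 32), (44, 31), (45, 30), (50, 24), (51, 23), (52, 22), (57, 15), (67, 7), (68, 6), (69, 5)]), (39, [(40, 34), (41, 33), (43, 29), (47, 25), (53, 20), (54, 19), (58, 14), (64, 9), (65, 8), (70, 2)]), (37, [(38, 35), (40, 32), (44, 28), (48, 24), (51, 21), (55, 17), (59, 13), (62, 10), (66, 6), (69, 3)]), (36, [(38, 34), (41, 31), (45, 27), (49, 23), (52, 20), (54, 18), (60, 12), (63, 9), (65, 7), (68, 4)])]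

set_option maxRecDepth 100000 in
theorem nb_all : (nbT.all fun p => clr p.2 p.1 [p.1] && Nat.beq p.2.length 10 && Nat.blt p.1 72) = true := by decide +kernel

def L56 : List (ℕ × ℕ) := [(57, 29), (58, 28), (59, 27), (60, 26), (61, 21), (62, 20), (63, 19), (64, 18), (65, 17), (66, 16)]

def LA : List (ℕ × ℕ) := [(22, 71), (23, 71), (24, 71), (25, 71), (46, 70)]

def LB : List (ℕ × ℕ) := [(23, 49), (24, 48), (24, 49), (25, 47), (25, 48), (25, 49), (22, 52), (22, 54), (22, 55), (23, 55), (30, 49), (33, 49), (35, 49), (36, 48), (30, 54), (30, 55), (31, 55), (33, 55), (34, 55), (37, 54)]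

def S0 : List ℕ := clS L56 [56]
def S1 : List ℕ := LA.map (fun p => sm p.1 p.2) ++ S0
def S2 : List ℕ := LB.map (fun p => sm p.1 p.2) ++ S1

set_option maxRecDepth 100000 in
theorem S0_chk : (clr L56 56 [56] && trv S0 56 LA && trv S1 56 LB && (S2.all fun x => P.contains x) && P.all fun x => S2.contains x) = true := by
  decide +kernel

/-- the remaining positive roots -/
def RR (x y z : ℕ) : List ℕ := P.filter fun w => !(w == x) && !(w == y) && !(w == z)

/-- check of a transfer from `x` to `y` -/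
def trfChk (x y : ℕ) (L : List (ℕ × ℕ)) : Bool :=
  let z := sm x y
  let R := RR x y z
  okPair R x z y && okPair R y z x && pres (x :: z :: R) x y && pres (y :: z :: R) y x && !((x :: z :: R).contains y) &&
  !((y :: z :: R).contains x) && clr L x [x] && Nat.beq L.length 10 && ((clS L [x]).all fun w => (x :: z :: R).contains w) &&
  (P.all fun w => (y :: x :: z :: R).contains w) && ((y :: x :: z :: R).all fun w => P.contains w) && !(x == 127) && Nat.blt x 72

set_option maxRecDepth 100000 in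
theorem trf_all : ([(56, 42), (42, 39), (39, 46), (39, 37), (37, 36)].all fun p =>
    trfChk p.1 p.2 ((nbT.find? fun t => t.1 == p.1).getD (0, [])).2) = true := by decide +kernel

/-- certificates for the lower bounds -/
def cT : List (List ℕ × ℕ × List (ℕ × ℕ)) := [([1, 3, 2, 0, 4, 3, 1, 2, 3, 4], 36, [(49, 67), (52, 64), (54, 62), (55, 61), (63, 53), (65, 51), (66, 50), (68, 48), (69, 47), (70, 46)]), ([3, 2, 0, 4, 3, 1, 2, 3, 4], 36, [(41, 67), (45, 64), (54, 59), (55, 58), (60, 53), (65, 44), (66, 43), (68, 40), (69, 39)]), ([2, 0, 4, 3, 1, 2, 3, 4], 36, [(38, 67), (45, 62), (52, 59), (55, 57), (60, 51), (63, 44), (66, 42), (68, 37)]), ([2, 0, 3, 1, 2, 3, 4], 36, [(36, 67), (45, 61), (52, 58), (54, 57), (60, 50), (63, 43), (65, 42)]), ([2, 0, 3, 1, 2, 3], 37, [(44, 61), (51, 58), (53, 57), (59, 50), (62, 43), (64, 42)]), ([0, 4, 3, 1, 2, 3, 4], 36, [(38, 64), (41, 62), (49, 59), (55, 56), (60, 48), (63, 40), (65, 37)]), ([0, 3, 1, 2, 3, 4], 36, [(36,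 64), (41, 61), (49, 58), (54, 56), (60, 47), (63, 39)]), ([0, 3, 1, 2, 3], 37, [(40, 61), (48, 58), (53, 56), (59, 47), (62, 39)]), ([0, 1, 2, 3, 4], 36, [(36, 62), (38, 61), (49, 57), (52, 56), (60, 46)]), ([0, 1, 2, 3], 37, [(37, 61), (48, 57), (51, 56), (59, 46)]), ([0, 1, 2], 39, [(47, 57), (50, 56), (58, 46)]), ([0, 2, 3, 4], 36, [(36, 59), (38, 58), (41, 57), (45, 56)]), ([0, 2, 3], 37, [(37, 58), (40, 57), (44, 56)]), ([0, 2], 39, [(39, 57), (43, 56)]), ([0], 42, [(42, 56)]), ([], 56, []), ([4, 3, 1, 2, 3, 4], 36, [(38, 53), (41, 51), (45, 48), (49, 44), (52, 40), (54, 37)]), ([3, 1, 2, 3, 4], 36, [(36, 53), (41, 50), (45, 47), (49, 43), (52, 39)]), ([3, 1, 2, 3], 37, [(40, 50), (44, 47), (48, 43), (51, 39)]), ([1, 2, 3, 4], 36, [(36, 51), (38, 50), (45, 46), (49, 42)]), ([1, 2, 3], 37, [(37, 50), (44, 46), (48, 42)]), ([1, 2], 39, [(43, 46), (47, 42)]), ([1, 3, 4], 36, [(36, 48), (38, 47), (41, 46)]), ([1, 3], 37, [(37, 47), (40, 46)]), ([1], 39, [(39,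 46)]), ([], 46, []), ([2, 3, 4], 36, [(36, 44), (38, 43), (41, 42)]), ([2, 3], 37, [(37, 43), (40, 42)]), ([2], 39, [(39, 42)]), ([], 42, []), ([3, 4], 36, [(36, 40), (38, 39)]), ([3], 37, [(37, 39)]), ([], 39, []), ([4], 36, [(36, 37)]), ([], 37, []), ([], 36, [])]

/-- the remaining positive roots -/
def Px (x : ℕ) : List ℕ := P.filter fun w => !(w == x)

/-- check of a certificate -/
def cChk (j : ℕ) : Bool :=
  let c := cT.getD j ([], 0, [])
  let r := 71 - j
  let H := List.range' (72 - j) j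
  let p := tr c.1 c.2.1 (Px c.2.1)
  pres H 100 r && !(H.contains r) && clr c.2.2 r (r :: H) && p.1 && p.2.1 == r &&
    ((clS c.2.2 (r :: H)).all fun y => (r :: p.2.2).contains y) && [56, 46, 42, 39, 37, 36].contains c.2.1 && Nat.blt 35 r

/-- lengths -/
def lens : List ℕ := [10, 9, 8, 7, 6, 7, 6, 5, 5, 4, 3, 4, 3, 2, 1, 0, 6, 5, 4, 4, 3, 2, 3, 2, 1, 0, 3, 2, 1, 0, 2, 1, 0, 1, 0, 0]

set_option maxRecDepth 100000 in
theorem cChk_all : ((List.range 36).all fun j => cChk j && Nat.beq (cT.getD j ([], 0, [])).2.2.length (lens.getD j 0)) = true := by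
  decide +kernel

set_option maxRecDepth 100000 in
theorem P_chk : ([56, 46, 42, 39, 37, 36].all fun x => (P.all fun w => (x :: Px x).contains w) && (x :: Px x).all fun w => P.contains w) = true := by
  decide +kernel

theorem lens_sum (q : ℕ) : ∑ j ∈ Finset.range 36, q ^ (lens.getD j 0) =
    6 + 5 * q + 5 * q ^ 2 + 5 * q ^ 3 + 4 * q ^ 4 + 3 * q ^ 5 + 3 * q ^ 6 + 2 * q ^ 7 + q ^ 8 + q ^ 9 + q ^ 10 := by
  simp only [Finset.sum_range_succ, Finset.sum_range_zero, lens, List.getD_cons_zero, List.getD_cons_succ]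
  ring

end Act

end Cfsg.Agent.E6Min
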